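import Mathlib
import Cfsg.Agent.LocalEven64.VertexIso

/-!
Elementary facts about the pair of vertices of a maximal straddling subgroup: `T = C_T(W) C_T(W')`,
the involutions of `T` lie in these two subgroups, `L ∩ L' = T`, `L = N(W)` (helper30).
-/

set_option autoImplicit false
set_option linter.unusedSectionVars false
set_option linter.style.haveILetI false

namespace Cfsg.Agent.FGAmalgam30

open Subgroup Cfsg
open Cfsg.Agent.LocalEven64
open scoped commutatorElement Pointwise

variable {G : Type*} [Group G] [Finite G]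

/-- Two vertices on the same Sylow subgroup. -/
structure Pair (T K L K' L' : Subgroup G) (k k' : G) : Prop where
  v : Vertex T K L
  hk : CompData K k
  hC : AmCtx G T
  v' : Vertex T K' L'
  hk' : CompData K' k'
  hne : L ≠ L'
  hcard : Nat.card (zj T) ≤ 4

variable {T K L K' L' : Subgroup G} {k k' : G} (p : Pair T K L K' L' k k')
include p

theorem Pair.symm : Pair T K' L' K L k' k :=
  ⟨p.v', p.hk', p.hC, p.v, p.hk, p.hne.symm, p.hcard⟩

theorem Pair.rK_le : rK T K ≤ T := inf_le_left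

theorem Pair.rK_elem : IsElementaryAbelian 2 (rK T K) :=
  (p.v.rK_eq p.hk p.hC p.v' p.hk' p.hne p.hcard).2

theorem Pair.rK_sup : rK T K = wOf K ⊔ cK T K := by
  refine le_antisymm (fun r hr => ?_) (sup_le p.v.wOf_le_rK
    ((inf_le_left : cK T K ≤ zj T).trans
      (p.v.zj_le_rK p.hk p.hC.hL p.hC.hN p.hC.hZ p.hC.fix)))
  obtain ⟨b, hb, e, he, rfl⟩ := p.v.rK_decomp p.hk p.hC p.v' p.hk' p.hne p.hcard hr
  exact mul_mem (mem_sup_left hb) (mem_sup_right he)

theorem Pair.zj_le_rK : zj T ≤ rK T K := p.v.zj_le_rK p.hk p.hC.hL p.hC.hN p.hC.hZ p.hC.fix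

theorem Pair.rK_inf : rK T K ⊓ rK T K' = zj T :=
  p.v.rK_inf_eq_zj p.hk p.hC p.v' p.hk' p.hne p.hcard

theorem Pair.card_rK : Nat.card (rK T K) = 4 * Nat.card (cK T K) :=
  p.v.card_rK p.hk p.hC p.v' p.hk' p.hne p.hcard

theorem Pair.card_zj : Nat.card (zj T) = 2 * Nat.card (cK T K) := p.v.card_zj p.hk

theorem Pair.card_T : Nat.card T = 2 * Nat.card (rK T K) := by
  have h := Subgroup.card_mul_index ((rK T K).subgroupOf T)
  rw [Nat.card_congr (Subgroup.subgroupOfEquivOfLe p.rK_le).toEquiv,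
    show ((rK T K).subgroupOf T).index = (rK T K).relIndex T from rfl,
    p.v.relIndex_rK_sylow p.hk p.hC] at h
  omega

theorem Pair.card_T' : Nat.card T = 8 * Nat.card (cK T K) := by
  rw [p.card_T, p.card_rK]; ring

theorem Pair.card_cK_le : Nat.card (cK T K) ≤ 2 := by
  have := p.card_zj
  have := p.hcard
  omega

theorem Pair.T_le_normalizer_rK : T ≤ normalizer (rK T K : Set G) :=
  p.v.le_normalizer_rK_sylow p.hC.hL p.hC.hN p.hC.hZ p.hC.fix

theorem Pair.exists_not_mem : ∃ x ∈ wOf K', x ∉ rK T K ∧ ∀ u ∈ wOf K', u ∈ zj T ∨ x * u ∈ zj T := by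
  obtain ⟨x, hx, hxZ, hall⟩ := p.v'.exists_x p.hk' p.hC
  exact ⟨x, hx, fun h => hxZ (p.rK_inf ▸ ⟨h, p.v'.wOf_le_rK hx⟩), hall⟩

theorem Pair.sup_rK : rK T K ⊔ rK T K' = T := by
  obtain ⟨b, hb, hbR, -⟩ := p.exists_not_mem
  refine Subgroup.eq_of_le_of_card_ge (sup_le p.rK_le p.symm.rK_le) ?_
  rw [p.card_T]
  exact two_mul_card_le_of_lt le_sup_left (mem_sup_right (p.v'.wOf_le_rK hb)) hbR

theorem Pair.L_eq_sup : K ⊔ T = L := p.v.sup_eq_maximal p.hk p.hC p.v' p.hk' p.hne p.hcard

theorem Pair.normalizer_rK : normalizer (rK T K : Set G) = L := by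
  refine le_antisymm ?_ ?_
  · refine p.v.hover _ ⟨rK T K, p.v.isPGroup.to_le p.rK_le, fun h => ?_, rfl⟩ (sup_le
      (p.v.le_normalizer_rK p.hk p.hC.hL p.hC.hN p.hC.hZ p.hC.fix)
      ((Thompson.thompsonSubgroupOf_le T).trans p.T_le_normalizer_rK))
    have := p.card_rK
    rw [h, Subgroup.card_bot] at this
    have := Nat.card_pos (α := cK T K)
    omega
  · rw [← p.L_eq_sup]
    exact sup_le (p.v.le_normalizer_rK p.hk p.hC.hL p.hC.hN p.hC.hZ p.hC.fix) p.T_le_normalizer_rK

theorem Pair.T_le_normalizer_wOf : T ≤ normalizer (wOf K : Set G) :=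
  (p.v.le_normalizer p.hC.hL p.hC.hN p.hC.hZ p.hC.fix).trans (normalizer_le_normalizer_wOf K)

theorem Pair.normalizer_wOf : normalizer (wOf K : Set G) = L := by
  refine le_antisymm ?_ ?_
  · exact p.v.hover _ (isTwoLocal_normalizer_wOf p.v.comp)
      (sup_le (component_le_normalizer_wOf K) (thompson_le_normalizer_wOf p.v.comp))
  · rw [← p.L_eq_sup]
    exact sup_le (component_le_normalizer_wOf K) p.T_le_normalizer_wOf

theorem Pair.card_le_of_two {P : Subgroup G} (hP : IsPGroup 2 P) (hPL : P ≤ L) :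
    Nat.card P ≤ Nat.card T := by
  obtain ⟨T₁, hT₁, hle⟩ := exists_isSylowTwoIn_ge hP hPL
  exact (card_le_of_le hle).trans (sylowTwoIn_card_eq hT₁ p.v.sylow).le

theorem Pair.eq_of_two {P : Subgroup G} (hP : IsPGroup 2 P) (hTP : T ≤ P) (hPL : P ≤ L) : P = T :=
  (Subgroup.eq_of_le_of_card_ge hTP (p.card_le_of_two hP hPL)).symm

theorem Pair.inf_eq : L ⊓ L' = T := by
  have h3 : T.relIndex L = 3 := by
    rw [← p.L_eq_sup]
    exact p.v.relIndex_sylow_sup p.hk p.hC
  have hle : T ≤ L ⊓ L' := le_inf p.v.sylow.1 p.v'.sylow.1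
  have h := Subgroup.relIndex_mul_relIndex T (L ⊓ L') L hle inf_le_left
  rw [h3] at h
  rcases (Nat.dvd_prime Nat.prime_three).mp (Dvd.intro _ h) with h' | h'
  · exact le_antisymm (relIndex_eq_one.mp h') hle
  · rw [h', mul_eq_left₀ (by norm_num)] at h
    exact absurd (p.v.maxl.2 _ p.v'.maxl.1 ((relIndex_eq_one.mp h).trans inf_le_right)) p.hne.symm

theorem Pair.centralizer_eq {c : G} (hc : c ∈ cK T K) (hc1 : c ≠ 1) :
    centralizer ({c} : Set G) = L := by
  refine le_antisymm (p.v.centralizer_le_of_mem_cK hc hc1) fun l hl => ?_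
  rw [mem_centralizer_singleton_iff]
  exact (mem_centralizer_iff.mp
    (p.v.maximal_le_centralizer_cK p.hk p.hC p.v' p.hk' p.hne p.hcard hl) c hc).symm

/-- The involutions of `T` lie in the two elementary subgroups. -/
theorem Pair.sq_cases {t : G} (ht : t ∈ T) (h2 : t * t = 1) : t ∈ rK T K ∨ t ∈ rK T K' := by
  by_contra hcon
  push Not at hcon
  have hmem : t ∈ (rK T K : Set G) * (rK T K' : Set G) := by
    rw [← Subgroup.coe_mul_of_right_le_normalizer_left (rK T K) (rK T K')
      (p.symm.rK_le.trans p.T_le_normalizer_rK), p.sup_rK]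
    exact ht
  obtain ⟨a, ha, b, hb, rfl⟩ := hmem
  have haR : a ∉ rK T K' := fun h => hcon.2 (mul_mem h hb)
  have hbR : b ∉ rK T K := fun h => hcon.1 (mul_mem ha h)
  have haa : a * a = 1 := by rw [← sq]; exact p.rK_elem.2 a ha
  have hbb : b * b = 1 := by rw [← sq]; exact p.symm.rK_elem.2 b hb
  have hab : a * b = b * a := by
    have h := eq_inv_of_mul_eq_one_left h2
    rwa [mul_inv_rev, inv_eq_of_mul_eq_one_right haa, inv_eq_of_mul_eq_one_right hbb] at h
  refine haR (p.v'.centralizer_rK_le p.hk' p.hC p.v p.hk p.hne.symm p.hcard ?_)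
  have hgen : zj T ⊔ zpowers b = rK T K' := by
    refine Subgroup.eq_of_le_of_card_ge (sup_le p.symm.zj_le_rK (zpowers_le.mpr hb)) ?_
    have hbz : b ∉ zj T := fun h => hbR (p.zj_le_rK h)
    have := two_mul_card_le_of_lt (le_sup_left : zj T ≤ zj T ⊔ zpowers b)
      (mem_sup_right (mem_zpowers b)) hbz
    have h1 := p.symm.card_rK
    have h2 := p.symm.card_zj
    omega
  have hle : rK T K' ≤ centralizer ({a} : Set G) := by
    rw [← hgen]
    refine sup_le (fun z hz => mem_centralizer_singleton_iff.mpr ?_)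
      (zpowers_le.mpr (mem_centralizer_singleton_iff.mpr hab.symm))
    exact Thompson.elemAb_comm p.rK_elem.1 (p.zj_le_rK hz) ha
  exact mem_centralizer_iff.mpr fun r hr => mem_centralizer_singleton_iff.mp (hle hr)

/-- An elementary abelian subgroup of `T` lies in one of the two. -/
theorem Pair.elementary_le {E : Subgroup G} (hE : IsElementaryAbelian 2 E) (hET : E ≤ T) :
    E ≤ rK T K ∨ E ≤ rK T K' := by
  have hcase : ∀ x ∈ E, x ∈ rK T K ∨ x ∈ rK T K' := fun x hx =>
    p.sq_cases (hET hx) (by rw [← sq]; exact hE.2 x hx)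
  by_contra hcon
  push Not at hcon
  obtain ⟨a, ha, haR⟩ := SetLike.not_le_iff_exists.mp hcon.1
  obtain ⟨b, hb, hbR⟩ := SetLike.not_le_iff_exists.mp hcon.2
  have haR' := (hcase a ha).resolve_left haR
  have hbR' := (hcase b hb).resolve_right hbR
  rcases hcase _ (mul_mem ha hb) with h | h
  · exact haR ((mul_mem_cancel_right hbR').mp h)
  · exact hbR ((mul_mem_cancel_left haR').mp h)

theorem Pair.elementary_eq {E : Subgroup G} (hE : IsElementaryAbelian 2 E) (hET : E ≤ T)
    (hc : Nat.card E = Nat.card (rK T K)) : E = rK T K ∨ E = rK T K' := by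
  have h' : Nat.card (rK T K') = Nat.card (rK T K) := by
    have := p.card_T
    have := p.symm.card_T
    omega
  rcases p.elementary_le hE hET with h | h
  · exact Or.inl (Subgroup.eq_of_le_of_card_ge h hc.ge)
  · exact Or.inr (Subgroup.eq_of_le_of_card_ge h (by omega))

/-- `W = [C_T(W), L]`. -/
theorem Pair.wOf_eq : wOf K = ⁅rK T K, L⁆ := by
  have hWN : L ≤ normalizer (wOf K : Set G) := p.normalizer_wOf.ge
  refine le_antisymm ?_ ?_
  · let f : wOf K → wOf K := fun u =>
      ⟨(u : G) * cj k u, mul_mem u.2 (p.hk.cj_mem p.v.comp u.2)⟩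
    have hf : Function.Injective f := fun u v huv => by
      have h : (u : G) * cj k u = (v : G) * cj k v := congrArg Subtype.val huv
      have h1 : cj k ((u : G) * v) = (u : G) * v := by
        have h2 := congrArg (fun x => (u : G) * x * cj k v) h
        simp only [mul_assoc] at h2
        rw [← mul_assoc (u : G) u, p.v.wOf_mul_self u.2, one_mul,
          p.v.wOf_mul_self (p.hk.cj_mem p.v.comp v.2), mul_one, ← map_mul] at h2
        exact h2
      have h3 := p.hk.fpf _ (mul_mem u.2 v.2) h1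
      exact Subtype.ext ((eq_inv_of_mul_eq_one_left h3).trans
        (inv_eq_of_mul_eq_one_right (p.v.wOf_mul_self v.2)))
    intro z hz
    obtain ⟨u, hu⟩ := Finite.surjective_of_injective hf ⟨z, hz⟩
    have hz' : (u : G) * cj k u = z := congrArg Subtype.val hu
    have h := commutator_mem_commutator (p.v.wOf_le_rK u.2) (p.v.le p.hk.mem)
    have hu' : (u : G)⁻¹ = u := inv_eq_of_mul_eq_one_right (p.v.wOf_mul_self u.2)
    rw [commutatorElement_def, hu', mul_assoc, mul_assoc, ← mul_assoc k] at h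
    rwa [← hz']
  · rw [commutator_le]
    intro r hr l hl
    obtain ⟨b, hb, e, he, rfl⟩ := p.v.rK_decomp p.hk p.hC p.v' p.hk' p.hne p.hcard hr
    have hel : l * e = e * l := (mem_centralizer_iff.mp
      (p.v.maximal_le_centralizer_cK p.hk p.hC p.v' p.hk' p.hne p.hcard hl) e he).symm
    have hle : l * e⁻¹ = e⁻¹ * l := (Commute.inv_right hel)
    have e1 : ⁅b * e, l⁆ = b * cj l b⁻¹ := by
      rw [commutatorElement_def, mul_inv_rev, cj_apply]
      simp only [mul_assoc]
      rw [← mul_assoc l e⁻¹, hle]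
      simp [mul_assoc]
    rw [e1]
    exact mul_mem hb (cj_mem_of_le_normalizer (hWN hl) (inv_mem hb))

/-- Conjugating the first vertex. -/
theorem Pair.map_wOf {h : G} {R : Subgroup G} (hR : (rK T K).map (cj h) = R) :
    (wOf K).map (cj h) = ⁅R, normalizer (R : Set G)⁆ := by
  rw [p.wOf_eq, Subgroup.map_commutator, hR, ← p.normalizer_rK, ← normalizer_map_cj, hR]

end Cfsg.Agent.FGAmalgam30
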