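import Mathlib
import Cfsg.Agent.FGAmalgam30.Basic

/-!
The case `|Ω₁(Z(J(T)))| = 4`: a Sylow 2-subgroup over `T` normalizes `T`, and the conjugates of the
element `c` centralized by `L` are controlled (helper30).
-/

set_option autoImplicit false
set_option linter.unusedSectionVars false
set_option linter.style.haveILetI false

namespace Cfsg.Agent.FGAmalgam30

open Subgroup Cfsg
open Cfsg.Agent.LocalEven64
open scoped commutatorElement Pointwise

variable {G : Type*} [Group G] [Finite G]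
theorem isEA_map {E : Subgroup G} (f : G →* G) (hE : IsElementaryAbelian 2 E) :
    IsElementaryAbelian 2 (E.map f) := by
  refine ⟨⟨⟨?_⟩⟩, ?_⟩
  · rintro ⟨_, a, ha, rfl⟩ ⟨_, b, hb, rfl⟩
    apply Subtype.ext
    show f a * f b = f b * f a
    rw [← map_mul, Thompson.elemAb_comm hE.1 ha hb, map_mul]
  · rintro _ ⟨a, ha, rfl⟩
    rw [← map_pow, hE.2 a ha, map_one]

variable {T K L K' L' : Subgroup G} {k k' : G} (p : Pair T K L K' L' k k')
include p

/-- An element of a 2-group over `T` normalizing `T`, outside `T`, exchanges the two elementary subgroups. -/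
theorem Pair.swap {P : Subgroup G} (hP : IsPGroup 2 P) (hTP : T ≤ P) {s : G} (hs : s ∈ P)
    (hsN : s ∈ normalizer (T : Set G)) (hsT : s ∉ T) :
    (rK T K).map (cj s) = rK T K' ∧ (rK T K').map (cj s) = rK T K := by
  have hTs : T.map (cj s) = T := map_cj_eq_self_iff.mpr hsN
  have key : ∀ {K₁ L₁ K₂ L₂ : Subgroup G} {k₁ k₂ : G}, Pair T K₁ L₁ K₂ L₂ k₁ k₂ →
      (rK T K₁).map (cj s) = rK T K₂ := by
    intro K₁ L₁ K₂ L₂ k₁ k₂ q
    rcases q.elementary_eq (E := (rK T K₁).map (cj s))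
      (isEA_map (cj s) q.rK_elem)
      ((Subgroup.map_mono q.rK_le).trans hTs.le)
      (Subgroup.card_map_of_injective (cj_injective s)) with h | h
    · have hsL : s ∈ L₁ := q.normalizer_rK ▸ map_cj_eq_self_iff.mp h
      exact absurd ((q.eq_of_two (hP.to_le inf_le_left) (le_inf hTP q.v.sylow.1)
        (inf_le_right : P ⊓ L₁ ≤ L₁)).le ⟨hs, hsL⟩) hsT
    · exact h
  exact ⟨key p, key p.symm⟩

theorem Pair.mul_mem_T {P : Subgroup G} (hP : IsPGroup 2 P) (hTP : T ≤ P) {a b : G}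
    (ha : a ∈ P) (haN : a ∈ normalizer (T : Set G)) (haT : a ∉ T)
    (hb : b ∈ P) (hbN : b ∈ normalizer (T : Set G)) (hbT : b ∉ T) : a * b ∈ T := by
  by_contra hab
  have h1 := (p.swap hP hTP (P.mul_mem ha hb) (mul_mem haN hbN) hab).1
  rw [← map_cj_map_cj, (p.swap hP hTP hb hbN hbT).1, (p.swap hP hTP ha haN haT).2] at h1
  exact p.hne (by rw [← p.normalizer_rK, h1, p.symm.normalizer_rK])

section Four

variable (h4 : Nat.card (zj T) = 4)
include h4

theorem Pair.card_cK : Nat.card (cK T K) = 2 := by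
  have := p.card_zj
  omega

theorem Pair.no_fix {P : Subgroup G} (hP : IsPGroup 2 P) (hTP : T ≤ P) {c : G} (hc : c ∈ cK T K)
    (hc1 : c ≠ 1) {s : G} (hs : s ∈ P) (hsT : s ∉ T) : s * c ≠ c * s := fun h =>
  hsT ((p.eq_of_two (hP.to_le inf_le_left) (le_inf hTP p.v.sylow.1)
    (inf_le_right : P ⊓ L ≤ L)).le
      ⟨hs, (p.centralizer_eq hc hc1).le (mem_centralizer_singleton_iff.mpr h)⟩)

theorem Pair.eight_le {P : Subgroup G} (hP : IsPGroup 2 P) (hTP : T ≤ P)
    (hPN : P ≤ normalizer (T : Set G)) {E : Subgroup G} (hE : IsElementaryAbelian 2 E)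
    (hc8 : Nat.card E = 8) (hEP : E ≤ P) : E ≤ T := by
  by_contra hET
  obtain ⟨s, hsE, hsT⟩ := SetLike.not_le_iff_exists.mp hET
  obtain ⟨hsw, hsw'⟩ := p.swap hP hTP (hEP hsE) (hPN (hEP hsE)) hsT
  have h2 : Nat.card E ≤ 2 * Nat.card (E ⊓ T : Subgroup G) :=
    card_le_two_mul inf_le_left fun a ha b hb haF hbF =>
      ⟨E.mul_mem ha hb, p.mul_mem_T hP hTP (hEP ha) (hPN (hEP ha)) (fun h => haF ⟨ha, h⟩)
        (hEP hb) (hPN (hEP hb)) (fun h => hbF ⟨hb, h⟩)⟩
  set F : Subgroup G := E ⊓ T with hF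
  have hFe : IsElementaryAbelian 2 F :=
    ⟨⟨⟨fun x y => Subtype.ext (Thompson.elemAb_comm hE.1 x.2.1 y.2.1)⟩⟩, fun x hx => hE.2 x hx.1⟩
  have hfix : F.map (cj s) = F := map_cj_eq_self_iff.mpr (centralizer_le_normalizer _
    (mem_centralizer_iff.mpr fun f hf => Thompson.elemAb_comm hE.1 hf.1 hsE))
  have hFz : F ≤ zj T := by
    rw [← p.rK_inf]
    rcases p.elementary_le hFe inf_le_right with h | h
    · exact le_inf h (hfix ▸ (Subgroup.map_mono h).trans hsw.le)
    · exact le_inf (hfix ▸ (Subgroup.map_mono h).trans hsw'.le) h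
  have heq : F = zj T := Subgroup.eq_of_le_of_card_ge hFz (by omega)
  obtain ⟨c, hc, hc1, -⟩ := p.v.cK_eq_pair p.hk h4
  exact p.no_fix h4 hP hTP hc hc1 (hEP hsE) hsT
    (Thompson.elemAb_comm hE.1 hsE (show c ∈ F from heq ▸ hc.1).1)

theorem Pair.conj_T_le {P : Subgroup G} (hP : IsPGroup 2 P) (hTP : T ≤ P)
    (hPN : P ≤ normalizer (T : Set G)) {h : G} (hh : T.map (cj h) ≤ P) : T.map (cj h) = T := by
  have key : ∀ {K₁ L₁ K₂ L₂ : Subgroup G} {k₁ k₂ : G}, Pair T K₁ L₁ K₂ L₂ k₁ k₂ →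
      (rK T K₁).map (cj h) ≤ T := by
    intro K₁ L₁ K₂ L₂ k₁ k₂ q
    refine q.eight_le h4 hP hTP hPN (isEA_map _ q.rK_elem) ?_
      ((Subgroup.map_mono q.rK_le).trans hh)
    rw [Subgroup.card_map_of_injective (cj_injective h), q.card_rK, q.card_cK h4]
  refine Subgroup.eq_of_le_of_card_ge ?_
    (Subgroup.card_map_of_injective (cj_injective h)).ge
  conv_lhs => rw [← p.sup_rK, Subgroup.map_sup]
  exact sup_le (key p) (key p.symm)

variable (S : Sylow 2 G) (hTS : T ≤ (S : Subgroup G))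
include hTS

theorem Pair.sylow_le_normalizer : (S : Subgroup G) ≤ normalizer (T : Set G) := by
  set P : Subgroup G := (S : Subgroup G) ⊓ normalizer (T : Set G) with hPdef
  by_contra hle
  obtain ⟨y, hyS, hyN, hyP⟩ := exists_normalizing_not_mem S.isPGroup'
    (lt_of_le_of_ne (inf_le_left : P ≤ (S : Subgroup G)) fun h => hle (h ▸ inf_le_right))
  refine hyP ⟨hyS, map_cj_eq_self_iff.mp (p.conj_T_le h4 (S.isPGroup'.to_le inf_le_left)
    (le_inf hTS le_normalizer) inf_le_right ?_)⟩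
  exact (Subgroup.map_mono (le_inf hTS le_normalizer)).trans (map_cj_eq_self_iff.mpr hyN).le

/-- A conjugate of `c` in `S` with a centralizer in `S` at least as large as `T`. -/
theorem Pair.conj_extremal {c : G} (hc : c ∈ cK T K) (hc1 : c ≠ 1) {g : G}
    {P : Subgroup G} (hPS : P ≤ (S : Subgroup G))
    (hPc : P ≤ centralizer ({cj g c} : Set G)) (hcard : Nat.card T ≤ Nat.card P) :
    cj g c ∈ zj T ∧
      (centralizer ({cj g c} : Set G) = L ∨ centralizer ({cj g c} : Set G) = L') := by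
  have hCy : centralizer ({cj g c} : Set G) = L.map (cj g) := by
    rw [centralizer_singleton_eq_map (rfl : cj g c = cj g c), p.centralizer_eq hc hc1]
  rw [hCy] at hPc
  have hP2 : IsPGroup 2 P := S.isPGroup'.to_le hPS
  have hTg : IsSylowTwoIn (T.map (cj g)) (L.map (cj g)) :=
    isSylowTwoIn_map (cj_injective g) p.v.sylow
  obtain ⟨T₁, hT₁, hle⟩ := exists_isSylowTwoIn_ge hP2 hPc
  have hT₁P : P = T₁ := Subgroup.eq_of_le_of_card_ge hle (by
    rw [sylowTwoIn_card_eq hT₁ hTg, Subgroup.card_map_of_injective (cj_injective g)]; exact hcard)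
  obtain ⟨l, hl, hlT⟩ := sylowTwoIn_conj hTg (hT₁P ▸ hT₁)
  rw [map_cj_map_cj] at hlT
  have hlc : cj (l * g) c = cj g c := by
    rw [cj_mul, cj_eq_self_iff]
    exact mem_centralizer_singleton_iff.mp (hCy.ge hl)
  have hfix := p.conj_T_le h4 S.isPGroup' hTS (p.sylow_le_normalizer h4 S hTS)
    (h := l * g) (hlT.le.trans hPS)
  have hN : l * g ∈ normalizer (T : Set G) := map_cj_eq_self_iff.mp hfix
  refine ⟨hlc ▸ cj_mem_of_le_normalizer (normalizer_le_normalizer_omegaCenterOf _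
    (Thompson.normalizer_le_normalizer_thompsonSubgroupOf T hN)) hc.1, ?_⟩
  have hmap : L.map (cj g) = L.map (cj (l * g)) := by
    rw [← map_cj_map_cj, map_cj_eq_self_of_mem hl]
  rw [hCy, hmap, ← p.normalizer_rK, ← normalizer_map_cj]
  rcases p.elementary_eq (isEA_map (cj (l * g)) p.rK_elem)
    ((Subgroup.map_mono p.rK_le).trans hfix.le)
    (Subgroup.card_map_of_injective (cj_injective _)) with h | h
  · left; rw [h]
  · right; rw [h, p.symm.normalizer_rK]

end Four

end Cfsg.Agent.FGAmalgam30
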