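import Mathlib
import Cfsg.Agent.FGAmalgam30.Fusion
import Cfsg.Agent.G2Syl.Transfer
import Cfsg.Agent.InvChar68.TransferPow
import Cfsg.Agent.Lib.Transfer.Residual
import Cfsg.Agent.Lib.Thompson.Alperin

/-!
The element `c` centralized by `L` lies outside `O²(G)`, by transfer (helper30).
-/

set_option autoImplicit false
set_option linter.unusedSectionVars false
set_option linter.style.haveILetI false

namespace Cfsg.Agent.FGAmalgam30

open Subgroup Cfsg
open Cfsg.Agent.LocalEven64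
open scoped commutatorElement Pointwise

variable {G : Type*} [Group G] [Finite G]

local notation "𝐇" => Cfsg.pResidual 2 G

/-- The intersection of a Sylow 2-subgroup with a normal subgroup, as a Sylow subgroup of the latter. -/
theorem exists_sylow_inf (S : Sylow 2 G) (N : Subgroup G) [N.Normal] :
    ∃ P : Sylow 2 ↥N, (P : Subgroup ↥N) = ((S : Subgroup G) ⊓ N).subgroupOf N := by
  haveI : Fact (Nat.Prime 2) := ⟨Nat.prime_two⟩
  obtain ⟨Q, hQ⟩ := (((S.isPGroup'.to_inf_left (K := N)).comap_subtype (K := N)) :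
    IsPGroup 2 (((S : Subgroup G) ⊓ N).subgroupOf N)).exists_le_sylow
  obtain ⟨S₁, hS₁⟩ := ((Q.isPGroup').map N.subtype).exists_le_sylow
  have h1 := Thompson.Alperin.sylow_inf_eq N Q S₁ hS₁
  obtain ⟨g, rfl⟩ := MulAction.exists_smul_eq G S S₁
  have h2 : ((S : Subgroup G) ⊓ N).map (cj g) = ((g • S : Sylow 2 G) : Subgroup G) ⊓ N := by
    have hg : g ∈ normalizer (N : Set G) := by rw [normalizer_eq_top]; exact mem_top g
    have hN : N.map (cj g) = N := map_cj_eq_self_iff.mpr hg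
    rw [Subgroup.map_inf _ _ _ (cj_injective g), hN, Sylow.coe_subgroup_smul]
    rfl
  refine ⟨Q, (Subgroup.eq_of_le_of_card_ge hQ ?_).symm⟩
  have h3 : Nat.card ((Q : Subgroup ↥N).map N.subtype) = Nat.card (((S : Subgroup G) ⊓ N : Subgroup G)) := by
    rw [← h1, ← h2, Subgroup.card_map_of_injective (cj_injective g)]
  rw [Subgroup.card_map_of_injective N.subtype_injective] at h3
  rw [h3]
  exact (Nat.card_congr (Subgroup.subgroupOfEquivOfLe (inf_le_right :
    (S : Subgroup G) ⊓ N ≤ N)).toEquiv).ge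

theorem pCoprime_of_odd {g : G} (h : Odd (orderOf g)) : g ∈ 𝐇 :=
  Transfer.mem_pResidual_of_coprime (Nat.coprime_two_right.mpr h)

theorem no_index_two (N : Subgroup ↥𝐇) [N.Normal] (h : N.index = 2) : False := by
  haveI : Fact (Nat.Prime 2) := ⟨Nat.prime_two⟩
  have h1 := Transfer.pResidual_le_of_index (p := 2) (N := N) (n := 1) (by rw [h, pow_one])
  rw [Transfer.pResidual_pResidual, top_le_iff] at h1
  rw [h1, Subgroup.index_top] at h
  exact absurd h (by norm_num)

variable {T K L K' L' : Subgroup G} {k k' : G} (p : Pair T K L K' L' k k')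
include p

theorem Pair.K_le : K ≤ 𝐇 := by
  rw [← p.v.comp.1, closure_le]
  exact fun g hg => pCoprime_of_odd hg.2

theorem Pair.wOf_le_residual : wOf K ≤ 𝐇 := by
  refine le_trans ?_ p.K_le
  show ⁅omegaCenterOf (pCoreOf 2 K), K⁆ ≤ K
  rw [commutator_le]
  intro a ha b hb
  have haK : a ∈ K := pCoreOf_le K (omegaCenterOf_le _ ha)
  rw [commutatorElement_def]
  exact K.mul_mem (K.mul_mem (K.mul_mem haK hb) (K.inv_mem haK)) (K.inv_mem hb)

theorem Pair.D_le : wOf K ⊔ wOf K' ≤ T :=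
  sup_le (p.v.wOf_le_rK.trans p.rK_le) (p.v'.wOf_le_rK.trans p.symm.rK_le)

theorem Pair.D_le_residual : wOf K ⊔ wOf K' ≤ 𝐇 := sup_le p.wOf_le_residual p.symm.wOf_le_residual

theorem Pair.T_le_D_cK : T ≤ (wOf K ⊔ wOf K') ⊔ cK T K := by
  conv_lhs => rw [← p.sup_rK]
  have h1 : rK T K ≤ (wOf K ⊔ wOf K') ⊔ cK T K :=
    p.rK_sup.le.trans (sup_le (le_sup_left.trans le_sup_left) le_sup_right)
  refine sup_le h1 (p.symm.rK_sup.le.trans (sup_le (le_sup_right.trans le_sup_left) ?_))
  exact ((inf_le_left : cK T K' ≤ zj T).trans p.zj_le_rK).trans h1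

theorem Pair.card_D_le : Nat.card (wOf K ⊔ wOf K' : Subgroup G) ≤ 8 := by
  have h := Thompson.card_sup_mul_card_inf (H := wOf K) (K := wOf K')
    (((p.v'.wOf_le_rK).trans p.symm.rK_le).trans p.T_le_normalizer_wOf)
  rw [p.v.wOf_card, p.v'.wOf_card] at h
  obtain ⟨w, hwZ, hwW, hw1, -⟩ := p.v.exists_w
  have hw' : w ∈ wOf K' :=
    (show w ∈ zj T ⊓ wOf K' from
      p.v.zj_inf_wOf_eq p.hk p.hC p.v' p.hk' p.hne p.hcard ▸ ⟨hwZ, hwW⟩).2
  have h2 := two_mul_card_le_of_lt (bot_le : (⊥ : Subgroup G) ≤ wOf K ⊓ wOf K')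
    (show w ∈ wOf K ⊓ wOf K' from ⟨hwW, hw'⟩) (by rwa [mem_bot])
  rw [Subgroup.card_bot] at h2
  nlinarith

theorem Pair.D_inf_cK {x : G} (hx : x ∈ cK T K) (hxD : x ∈ wOf K ⊔ wOf K') : x = 1 := by
  by_contra hx1
  have hle : cK T K ≤ wOf K ⊔ wOf K' := by
    intro y hy
    by_cases hy1 : y = 1
    · rw [hy1]; exact one_mem _
    have h2 : Nat.card (cK T K) = 2 := by
      have := p.card_cK_le
      have := two_mul_card_le_of_lt (bot_le : (⊥ : Subgroup G) ≤ cK T K) hx (by rwa [mem_bot])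
      rw [Subgroup.card_bot] at this
      omega
    rcases two_eq_of_card_two h2 hx hx1 hy with h | h
    · exact absurd h hy1
    · rwa [h]
  have h1 := card_le_of_le (p.T_le_D_cK.trans (sup_le le_rfl hle))
  have := p.card_D_le
  have := p.card_T'
  have := two_mul_card_le_of_lt (bot_le : (⊥ : Subgroup G) ≤ cK T K) hx (by rwa [mem_bot])
  rw [Subgroup.card_bot] at this
  omega

theorem Pair.D_map {P : Subgroup G} (hP : IsPGroup 2 P) (hTP : T ≤ P) {s : G} (hs : s ∈ P)
    (hsN : s ∈ normalizer (T : Set G)) (hsT : s ∉ T) :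
    (wOf K ⊔ wOf K').map (cj s) = wOf K ⊔ wOf K' := by
  obtain ⟨h1, h2⟩ := p.swap hP hTP hs hsN hsT
  rw [Subgroup.map_sup, p.map_wOf h1, p.symm.map_wOf h2, p.symm.normalizer_rK, p.normalizer_rK,
    ← p.symm.wOf_eq, ← p.wOf_eq, sup_comm]

theorem Pair.cK_inf_residual_four (h4 : Nat.card (zj T) = 4) (S : Sylow 2 G)
    (hTS : T ≤ (S : Subgroup G)) : cK T K ⊓ 𝐇 = ⊥ := by
  haveI : Fact (Nat.Prime 2) := ⟨Nat.prime_two⟩
  obtain ⟨c, hc, hc1, hcu⟩ := p.v.cK_eq_pair p.hk h4
  rw [eq_bot_iff]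
  intro x hx
  rw [mem_bot]
  by_contra hx1
  have hcH : c ∈ 𝐇 := (hcu x hx.1).resolve_left hx1 ▸ hx.2
  set D : Subgroup G := wOf K ⊔ wOf K' with hDdef
  have hD8' : Nat.card D ≤ 8 := p.card_D_le
  have hTH : T ≤ 𝐇 := p.T_le_D_cK.trans (sup_le p.D_le_residual fun y hy => by
    rcases hcu y hy with rfl | rfl
    exacts [one_mem _, hcH])
  set R : Subgroup G := (S : Subgroup G) ⊓ 𝐇 with hR
  have hTR : T ≤ R := le_inf hTS hTH
  have hRH : R ≤ 𝐇 := inf_le_right
  have hR2 : IsPGroup 2 R := S.isPGroup'.to_inf_left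
  have hRN : R ≤ normalizer (T : Set G) := inf_le_left.trans (p.sylow_le_normalizer h4 S hTS)
  obtain ⟨P, hP⟩ := exists_sylow_inf S 𝐇
  obtain ⟨w, hwZ, hwW, hw1, -⟩ := p.v.exists_w
  have hww : w * w = 1 := p.v.wOf_mul_self hwW
  have hwD : w ∈ D := mem_sup_left hwW
  have hcT : c ∈ T := p.rK_le (p.zj_le_rK hc.1)
  have hcc : c * c = 1 := zj_mul_self hc.1
  have hcord : orderOf c = 2 := orderOf_eq_prime (by rw [sq, hcc]) hc1
  have hcD : c ∉ D := fun h => hc1 (p.D_inf_cK hc h)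
  have hDc8 : 2 * Nat.card T ≥ 4 * Nat.card D ∧ 16 = Nat.card T := by
    have := p.card_T'
    rw [p.card_cK h4] at this
    omega
  have hD8 : Nat.card D = 8 := by
    have h := Thompson.card_sup_mul_card_inf (H := D) (K := cK T K) (fun y hy =>
      centralizer_le_normalizer _ (mem_centralizer_iff.mpr fun d hd =>
        (mem_centralizer_iff.mp (p.hC.fix (p.D_le hd)) y hy.1).symm))
    have h1 := card_le_of_le p.T_le_D_cK
    have h2 := p.card_D_le
    have h3 := Nat.card_pos (α := (D ⊓ cK T K : Subgroup G))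
    rw [p.card_cK h4] at h
    nlinarith
  -- the transfer with a subgroup of index two containing `D` and not `c`
  have hkey : ∀ M : Subgroup G, D ≤ M → c ∉ M → M ≤ R → M.relIndex R = 2 → False := by
    intro M hDM hcM hMR hidx
    have hM' : (M.subgroupOf 𝐇).relIndex (P : Subgroup ↥𝐇) = 2 := by
      rw [hP, Subgroup.relIndex_subgroupOf hRH, hidx]
    suffices h : ∃ N : Subgroup ↥𝐇, N.Normal ∧ N.index = 2 by
      obtain ⟨N, hN, hNi⟩ := h
      exact no_index_two N hNi
    refine (G2Syl.transfer_extremal P (M.subgroupOf 𝐇) hM'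
      (u := (⟨c, hcH⟩ : ↥𝐇)) (by rw [← Subgroup.orderOf_coe]; exact hcord) ?_).imp
      fun N h => ⟨h.1, h.2.1⟩
    intro g hgS hgM
    refine ⟨1, by
      rw [one_mul, inv_one, mul_one, hP, mem_subgroupOf]
      exact ⟨hTS hcT, hcH⟩, ?_⟩
    have hcard : ∀ y : ↥𝐇, Nat.card ↥((P : Subgroup ↥𝐇) ⊓ centralizer ({y} : Set ↥𝐇)) =
        Nat.card ↥(R ⊓ centralizer ({(y : G)} : Set G)) := by
      intro y
      rw [← Subgroup.card_map_of_injective (Subgroup.subtype_injective 𝐇)
        (K := (P : Subgroup ↥𝐇) ⊓ centralizer ({y} : Set ↥𝐇))]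
      congr 2
      ext z
      constructor
      · rintro ⟨a, ⟨ha, ha'⟩, rfl⟩
        rw [hP] at ha
        exact ⟨mem_subgroupOf.mp ha, mem_centralizer_singleton_iff.mpr
          (congrArg Subtype.val (mem_centralizer_singleton_iff.mp ha'))⟩
      · rintro ⟨hz, hz'⟩
        refine ⟨⟨z, hRH hz⟩, ⟨?_, ?_⟩, rfl⟩
        · rw [hP]; exact mem_subgroupOf.mpr hz
        · exact mem_centralizer_singleton_iff.mpr
            (Subtype.ext (mem_centralizer_singleton_iff.mp hz'))
    rw [hcard, hcard]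
    simp only [one_mul, inv_one, mul_one]
    have hRc : R ⊓ centralizer ({c} : Set G) = T := by
      rw [p.centralizer_eq hc hc1]
      exact p.eq_of_two (hR2.to_le inf_le_left) (le_inf hTR p.v.sylow.1) inf_le_right
    rw [hRc]
    by_contra hlt
    push Not at hlt
    set y : G := cj (g : G) c with hy
    have hyeq : ((g * (⟨c, hcH⟩ : ↥𝐇) * g⁻¹ : ↥𝐇) : G) = y := by
      simp [hy, cj_apply]
    rw [hyeq] at hlt
    obtain ⟨hyZ, hyC⟩ := p.conj_extremal h4 S hTS hc hc1 (g := (g : G))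
      (inf_le_left.trans inf_le_left) inf_le_right hlt
    rw [← hy] at hyZ hyC
    have hyM : y ∈ M := hyeq ▸ mem_subgroupOf.mp hgM
    have hy1 : y ≠ 1 := fun h => hc1 (cj_injective (g : G) (h.trans (map_one _).symm))
    have hyw : y = w := by
      rcases p.v.zj_split p.hk hyZ hwZ hwW hw1 with h | h
      · rcases hcu _ h with h' | h'
        · exact absurd h' hy1
        · exact absurd (h' ▸ hyM) hcM
      · rcases hcu _ h with h' | h'
        · exact (eq_inv_of_mul_eq_one_left h').trans (inv_eq_of_mul_eq_one_right hww)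
        · exact absurd (h' ▸ M.mul_mem hyM (hDM hwD)) hcM
    have hw' : w ∈ wOf K' :=
      (show w ∈ zj T ⊓ wOf K' from
        p.v.zj_inf_wOf_eq p.hk p.hC p.v' p.hk' p.hne p.hcard ▸ ⟨hwZ, hwW⟩).2
    rw [hyw] at hyC
    rcases hyC with h | h
    · exact hw1 (p.hk.fpf w hwW (cj_eq_self_iff.mpr
        (mem_centralizer_singleton_iff.mp (h.ge (p.v.le p.hk.mem)))))
    · exact hw1 (p.hk'.fpf w hw' (cj_eq_self_iff.mpr
        (mem_centralizer_singleton_iff.mp (h.ge (p.v'.le p.hk'.mem)))))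
  have hRcard : Nat.card R ≤ 2 * Nat.card T := card_le_two_mul hTR fun a ha b hb haT hbT =>
    p.mul_mem_T hR2 hTR ha (hRN ha) haT hb (hRN hb) hbT
  have hidx : ∀ {M : Subgroup G}, M ≤ R → 2 * Nat.card M = Nat.card R → M.relIndex R = 2 := by
    intro M hM h2
    have h := Subgroup.card_mul_index (M.subgroupOf R)
    rw [Nat.card_congr (Subgroup.subgroupOfEquivOfLe hM).toEquiv, ← h2] at h
    have := Nat.card_pos (α := M)
    exact Nat.eq_of_mul_eq_mul_left this (h.trans (mul_comm _ _))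
  by_cases hRT : R = T
  · exact hkey D le_rfl hcD (p.D_le.trans hTR) (hidx (p.D_le.trans hTR) (by rw [hRT]; omega))
  obtain ⟨y₀, hy₀R, hy₀T⟩ := SetLike.exists_of_lt (lt_of_le_of_ne hTR (Ne.symm hRT))
  have hR32 : Nat.card R = 32 := by
    have := two_mul_card_le_of_lt hTR hy₀R hy₀T
    omega
  by_cases hsq : ∃ y ∈ R, y ∉ T ∧ y * y ∈ D
  · obtain ⟨y, hyR, hyT, hyD⟩ := hsq
    have hyn : zpowers y ≤ normalizer (D : Set G) := zpowers_le.mpr
      (map_cj_eq_self_iff.mp (p.D_map hR2 hTR hyR (hRN hyR) hyT))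
    set M : Subgroup G := D ⊔ zpowers y with hM
    have hMR : M ≤ R := sup_le (p.D_le.trans hTR) (zpowers_le.mpr hyR)
    have hMle : Nat.card M ≤ 16 := by
      have h := Thompson.card_sup_mul_card_inf (H := D) (K := zpowers y) hyn
      have h2 : Nat.card (zpowers y) ≤ 2 * Nat.card (D ⊓ zpowers y : Subgroup G) := by
        refine card_le_two_mul inf_le_right fun a ha b hb haD hbD => ?_
        obtain ⟨i, rfl⟩ := mem_zpowers_iff.mp ha
        obtain ⟨j, rfl⟩ := mem_zpowers_iff.mp hb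
        have hodd : ∀ i : ℤ, y ^ i ∉ D ⊓ zpowers y → Odd i := fun i hi => by
          rcases Int.even_or_odd i with ⟨m, rfl⟩ | h
          · exact absurd ⟨by
              rw [zpow_add, ← (Commute.refl y).mul_zpow]
              exact D.zpow_mem hyD m, mem_zpowers_iff.mpr ⟨_, rfl⟩⟩ hi
          · exact h
        obtain ⟨m, hm⟩ := (hodd i haD).add_odd (hodd j hbD)
        refine ⟨?_, mul_mem ha hb⟩
        rw [← zpow_add, hm, zpow_add, ← (Commute.refl y).mul_zpow]
        exact D.zpow_mem hyD m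
      have := Nat.card_pos (α := (D ⊓ zpowers y : Subgroup G))
      rw [hD8, ← hM] at h
      nlinarith
    have hMge : 2 * Nat.card D ≤ Nat.card M := two_mul_card_le_of_lt (le_sup_left : D ≤ M)
      (mem_sup_right (mem_zpowers y)) (fun h => hyT (p.D_le h))
    refine hkey M le_sup_left (fun hcM => ?_) hMR (hidx hMR (by omega))
    have hTM : T ≤ M := p.T_le_D_cK.trans (sup_le le_sup_left fun z hz => by
      rcases hcu z hz with rfl | rfl
      exacts [one_mem _, hcM])
    exact hyT ((Subgroup.eq_of_le_of_card_ge hTM (by omega)).ge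
      (mem_sup_right (mem_zpowers y)))
  · push Not at hsq
    have hexp : ∀ t ∈ T, t ^ 4 = 1 := fun t ht => by
      have h := p.rK_elem.2 _ (p.v.sq_mem_rK p.hk p.hC.hL p.hC.hN p.hC.hZ p.hC.fix ht)
      rw [← sq, ← pow_mul] at h
      exact h
    have hord : ∀ y ∈ R, y ∉ T → orderOf y = 8 := by
      intro y hyR hyT
      have hy2 : y * y ∈ T := p.mul_mem_T hR2 hTR hyR (hRN hyR) hyT hyR (hRN hyR) hyT
      have h8 : y ^ 8 = 1 := by
        have := hexp _ hy2
        rwa [← sq, ← pow_mul] at this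
      refine orderOf_eq_prime_pow (p := 2) (n := 2) (fun h4' => ?_) h8
      have hinv : (y * y) * (y * y) = 1 := by
        rw [← sq, ← sq, ← pow_mul]; exact h4'
      obtain ⟨hs1, hs2⟩ := p.swap hR2 hTR hyR (hRN hyR) hyT
      have hfix : cj y (y * y) = y * y := cj_eq_self_iff.mpr (mul_assoc y y y).symm
      have hzj : y * y ∈ zj T := by
        rw [← p.rK_inf]
        rcases p.sq_cases hy2 hinv with h | h
        · exact ⟨h, hs1 ▸ hfix ▸ mem_map_of_mem _ h⟩
        · exact ⟨hs2 ▸ hfix ▸ mem_map_of_mem _ h, h⟩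
      have hDy : D.map (cj y) = D := p.D_map hR2 hTR hyR (hRN hyR) hyT
      have hzy : (zj T).map (cj y) = zj T := map_cj_eq_self_iff.mpr
        (normalizer_le_normalizer_omegaCenterOf _
          (Thompson.normalizer_le_normalizer_thompsonSubgroupOf T (hRN hyR)))
      have hwy : cj y w = w := by
        have h1 : cj y w ∈ zj T := hzy ▸ mem_map_of_mem _ hwZ
        have h2 : cj y w ∈ D := hDy ▸ mem_map_of_mem _ hwD
        have h3 : cj y w ≠ 1 := fun h => hw1 (cj_injective y (h.trans (map_one _).symm))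
        rcases p.v.zj_split p.hk h1 hwZ hwW hw1 with h | h
        · exact absurd (p.D_inf_cK h h2) h3
        · exact (eq_inv_of_mul_eq_one_left (p.D_inf_cK h (mul_mem h2 hwD))).trans
            (inv_eq_of_mul_eq_one_right hww)
      refine p.no_fix h4 hR2 hTR hc hc1 hyR hyT (cj_eq_self_iff.mp ?_)
      rcases p.v.zj_split p.hk hzj hwZ hwW hw1 with h | h
      · rcases hcu _ h with h' | h'
        · exact absurd (h' ▸ D.one_mem) (hsq y hyR hyT)
        · rw [← h', hfix]
      · rcases hcu _ h with h' | h'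
        · exact absurd ((eq_inv_of_mul_eq_one_left h').trans
            (inv_eq_of_mul_eq_one_right hww) ▸ hwD) (hsq y hyR hyT)
        · rw [← h', map_mul, hfix, hwy]
    have hy₀H : y₀ ∈ 𝐇 := hRH hy₀R
    obtain ⟨N, hN, hNi, -⟩ := InvChar68.transfer_pow P (T.subgroupOf 𝐇) (by
        rw [hP, Subgroup.relIndex_subgroupOf hRH]; exact hidx hTR (by omega)) 3 (by norm_num)
      (u := (⟨y₀, hy₀H⟩ : ↥𝐇)) (fun z hz hzT => by
        rw [hP] at hz
        rw [← Subgroup.orderOf_coe, hord z (mem_subgroupOf.mp hz) fun h => hzT h]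
        norm_num)
      (by rw [← Subgroup.orderOf_coe]; exact hord y₀ hy₀R hy₀T)
      (fun g _ hgT => by
        have h := hexp _ (mem_subgroupOf.mp hgT)
        rw [Subgroup.coe_mul, Subgroup.coe_mul, Subgroup.coe_inv, conj_pow,
          conj_eq_one_iff] at h
        have h8 := orderOf_dvd_of_pow_eq_one h
        rw [show ((⟨y₀, hy₀H⟩ : ↥𝐇) : G) = y₀ from rfl, hord y₀ hy₀R hy₀T] at h8
        norm_num at h8)
    exact no_index_two N hNi

theorem Pair.cK_inf_residual (S : Sylow 2 G) (hTS : T ≤ (S : Subgroup G)) :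
    cK T K ⊓ 𝐇 = ⊥ := by
  by_cases h4 : Nat.card (zj T) = 4
  · exact p.cK_inf_residual_four h4 S hTS
  · refine le_bot_iff.mp (inf_le_left.trans (Subgroup.card_eq_one.mp ?_).le)
    have := p.card_zj
    have := p.hcard
    have := Nat.card_pos (α := cK T K)
    omega

end Cfsg.Agent.FGAmalgam30
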