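import Mathlib
import Cfsg.Agent.FGAmalgam30.Residual
import Cfsg.Agent.InvChar68.MaximalClass

/-!
`L ∩ O²(G) ≅ S₄` is a maximal 2-local subgroup of `O²(G)`, and the Sylow 2-subgroups of `O²(G)` are
dihedral or semidihedral (helper30).
-/

set_option autoImplicit false
set_option linter.unusedSectionVars false
set_option linter.style.haveILetI false

namespace Cfsg.Agent.FGAmalgam30

open Subgroup Cfsg
open Cfsg.Agent.LocalEven64
open scoped commutatorElement Pointwise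

variable {G : Type*} [Group G] [Finite G]

local notation "𝐇" => Cfsg.pResidual 2 G

/-- Two complements of a normal subgroup are isomorphic. -/
theorem equiv_of_complements {L A B C : Subgroup G} (hA : A ≤ L) (hB : B ≤ L)
    [(C.subgroupOf L).Normal] (hCL : C ≤ L) (hAC : A ⊓ C = ⊥) (hBC : B ⊓ C = ⊥)
    (hA' : Nat.card A * Nat.card C = Nat.card L) (hB' : Nat.card B * Nat.card C = Nat.card L) :
    Nonempty (↥A ≃* ↥B) := by
  have key : ∀ {X : Subgroup G}, X ≤ L → X ⊓ C = ⊥ → Nat.card X * Nat.card C = Nat.card L →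
      Nonempty (↥X ≃* ↥L ⧸ C.subgroupOf L) := by
    intro X hX hXC hX'
    let f : ↥X →* ↥L ⧸ C.subgroupOf L :=
      (QuotientGroup.mk' (C.subgroupOf L)).comp (Subgroup.inclusion hX)
    have hf : Function.Injective f := by
      rw [← MonoidHom.ker_eq_bot_iff, eq_bot_iff]
      intro x hx
      have h0 : Subgroup.inclusion hX x ∈ C.subgroupOf L :=
        (QuotientGroup.eq_one_iff (N := C.subgroupOf L) _).mp hx
      have h : (x : G) ∈ C := mem_subgroupOf.mp h0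
      have h1 : (x : G) ∈ X ⊓ C := ⟨x.2, h⟩
      rw [hXC, mem_bot] at h1
      exact mem_bot.mpr (Subtype.ext h1)
    refine ⟨MulEquiv.ofBijective f (hf.bijective_of_nat_card_le ?_)⟩
    have h := Subgroup.card_eq_card_quotient_mul_card_subgroup (C.subgroupOf L)
    rw [Nat.card_congr (Subgroup.subgroupOfEquivOfLe hCL).toEquiv, ← hX'] at h
    exact (Nat.eq_of_mul_eq_mul_right Nat.card_pos h).ge
  obtain ⟨e⟩ := key hA hAC hA'
  obtain ⟨e'⟩ := key hB hBC hB'
  exact ⟨e.trans e'.symm⟩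

variable {T K L K' L' : Subgroup G} {k k' : G} (p : Pair T K L K' L' k k')
include p

theorem Pair.card_L : Nat.card L = 24 * Nat.card (cK T K) := by
  have h := Subgroup.card_mul_index ((rK T K).subgroupOf (K ⊔ T))
  rw [Nat.card_congr (Subgroup.subgroupOfEquivOfLe
    (show rK T K ≤ K ⊔ T from inf_le_left.trans le_sup_right)).toEquiv,
    show ((rK T K).subgroupOf (K ⊔ T)).index = (rK T K).relIndex (K ⊔ T) from rfl,
    p.v.relIndex_rK_sup p.hk p.hC, p.card_rK, p.L_eq_sup] at h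
  omega

theorem Pair.L_le : L ≤ (K ⊔ (wOf K ⊔ wOf K')) ⊔ cK T K := by
  conv_lhs => rw [← p.L_eq_sup]
  exact sup_le (le_sup_left.trans le_sup_left)
    (p.T_le_D_cK.trans (sup_le (le_sup_right.trans le_sup_left) le_sup_right))

theorem Pair.L_le_centralizer_cK : L ≤ centralizer (cK T K : Set G) :=
  p.v.maximal_le_centralizer_cK p.hk p.hC p.v' p.hk' p.hne p.hcard

theorem Pair.cK_le_L : cK T K ≤ L :=
  ((inf_le_left : cK T K ≤ zj T).trans p.zj_le_rK).trans (p.rK_le.trans p.v.sylow.1)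

variable (hcH : cK T K ⊓ Cfsg.pResidual 2 G = ⊥)
include hcH

theorem Pair.rK_inf_residual : rK T K ⊓ 𝐇 = wOf K := by
  refine le_antisymm (fun r hr => ?_) (le_inf p.v.wOf_le_rK p.wOf_le_residual)
  obtain ⟨b, hb, e, he, rfl⟩ := p.v.rK_decomp p.hk p.hC p.v' p.hk' p.hne p.hcard hr.1
  have he' : e ∈ cK T K ⊓ 𝐇 := ⟨he, (mul_mem_cancel_left (p.wOf_le_residual hb)).mp hr.2⟩
  rw [hcH, mem_bot] at he'
  rw [he', mul_one]
  exact hb

theorem Pair.card_D : Nat.card (wOf K ⊔ wOf K' : Subgroup G) = 8 ∧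
    T ⊓ 𝐇 = wOf K ⊔ wOf K' := by
  set D : Subgroup G := wOf K ⊔ wOf K' with hD
  have hn : cK T K ≤ normalizer (D : Set G) := fun y hy =>
    centralizer_le_normalizer _ (mem_centralizer_iff.mpr fun d hd =>
      (mem_centralizer_iff.mp (p.hC.fix (p.D_le hd)) y hy.1).symm)
  have h := Thompson.card_sup_mul_card_inf (H := D) (K := cK T K) hn
  have h1 := card_le_of_le p.T_le_D_cK
  have h2 : Nat.card D ≤ 8 := p.card_D_le
  have h3 := Nat.card_pos (α := (D ⊓ cK T K : Subgroup G))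
  rw [p.card_T'] at h1
  have h4 := Nat.card_pos (α := cK T K)
  have h8 : Nat.card D = 8 := by
    have h5 : Nat.card (D ⊔ cK T K : Subgroup G) ≤ Nat.card D * Nat.card (cK T K) := by
      rw [← h]; exact Nat.le_mul_of_pos_right _ h3
    nlinarith
  refine ⟨h8, le_antisymm (fun x hx => ?_) (le_inf p.D_le p.D_le_residual)⟩
  have hmem : x ∈ (D : Set G) * (cK T K : Set G) := by
    rw [← Subgroup.coe_mul_of_right_le_normalizer_left D (cK T K) hn]
    exact p.T_le_D_cK hx.1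
  obtain ⟨d, hd, e, he, rfl⟩ := hmem
  have he' : e ∈ cK T K ⊓ 𝐇 := ⟨he, (mul_mem_cancel_left (p.D_le_residual hd)).mp hx.2⟩
  rw [hcH, mem_bot] at he'
  show d * e ∈ D
  rw [he', mul_one]
  exact hd

theorem Pair.card_L_inf : Nat.card (L ⊓ 𝐇 : Subgroup G) * Nat.card (cK T K) = Nat.card L ∧
    Nat.card (L ⊓ 𝐇 : Subgroup G) = 24 := by
  have hsup : (L ⊓ 𝐇) ⊔ cK T K = L := by
    refine le_antisymm (sup_le inf_le_left p.cK_le_L) (p.L_le.trans (sup_le_sup_right ?_ _))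
    exact le_inf (sup_le p.v.le (p.D_le.trans p.v.sylow.1))
      (sup_le p.K_le p.D_le_residual)
  have h := Thompson.card_sup_mul_card_inf (H := L ⊓ 𝐇) (K := cK T K) (fun y hy =>
    centralizer_le_normalizer _ (mem_centralizer_iff.mpr fun a ha =>
      (mem_centralizer_iff.mp (p.L_le_centralizer_cK ha.1) y hy).symm))
  have hbot : L ⊓ 𝐇 ⊓ cK T K = ⊥ := le_bot_iff.mp
    (hcH ▸ le_inf inf_le_right (inf_le_left.trans inf_le_right))
  rw [hsup, hbot, Subgroup.card_bot, mul_one] at h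
  refine ⟨h.symm, ?_⟩
  rw [p.card_L] at h
  exact (Nat.eq_of_mul_eq_mul_right Nat.card_pos h).symm

theorem Pair.iso_S4 : Nonempty (↥(L ⊓ 𝐇 : Subgroup G) ≃* Equiv.Perm (Fin 4)) := by
  obtain ⟨P₀, hP₀, ⟨e⟩, hinf, hcard⟩ := p.v.exists_four p.hk p.hC p.v' p.hk' p.hne p.hcard
  haveI : ((cK T K).subgroupOf L).Normal := normal_subgroupOf_of_le_normalizer
    (p.L_le_centralizer_cK.trans (centralizer_le_normalizer _))
  obtain ⟨e'⟩ := equiv_of_complements (A := L ⊓ 𝐇) (B := P₀) inf_le_left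
    (hP₀.trans p.L_eq_sup.le) p.cK_le_L
    (le_bot_iff.mp (hcH ▸ le_inf inf_le_right (inf_le_left.trans inf_le_right))) hinf
    (p.card_L_inf hcH).1 (by rw [hcard, p.card_L])
  exact ⟨e'.trans e⟩

theorem Pair.isMaximalTwoLocal : IsMaximalTwoLocal (L.subgroupOf 𝐇) := by
  have hWH := p.wOf_le_residual
  have hN : normalizer (((wOf K).subgroupOf 𝐇 : Subgroup ↥𝐇) : Set ↥𝐇) = L.subgroupOf 𝐇 := by
    rw [← Subgroup.subgroupOf_normalizer_eq hWH, p.normalizer_wOf]
  obtain ⟨w, -, hwW, hw1, -⟩ := p.v.exists_w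
  refine ⟨⟨(wOf K).subgroupOf 𝐇, (isPGroup_wOf p.v.comp).comap_subtype, fun h => hw1 ?_, hN.symm⟩, ?_⟩
  · have hm : (⟨w, hWH hwW⟩ : ↥𝐇) ∈ (wOf K).subgroupOf 𝐇 := mem_subgroupOf.mpr hwW
    rw [h, mem_bot] at hm
    exact congrArg Subtype.val hm
  rintro N ⟨U₀, hU₂, hU₁, rfl⟩ hle
  set U : Subgroup G := U₀.map (Subgroup.subtype 𝐇) with hU
  have hUH : U ≤ 𝐇 := map_subtype_le _
  have hU0 : U.subgroupOf 𝐇 = U₀ := comap_map_eq_self_of_injective (subtype_injective _) _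
  have hU2 : IsPGroup 2 U := hU₂.map _
  have hNU : normalizer (U₀ : Set ↥𝐇) = (normalizer (U : Set G)).subgroupOf 𝐇 := by
    rw [Subgroup.subgroupOf_normalizer_eq hUH, hU0]
  have hLH : L ⊓ 𝐇 ≤ normalizer (U : Set G) := fun x hx => by
    have h := hle (show (⟨x, hx.2⟩ : ↥𝐇) ∈ L.subgroupOf 𝐇 from hx.1)
    rw [hNU] at h
    exact h
  -- `U ∩ L` is a normal 2-subgroup of `L` inside `O²(G)`
  have hUL : U ⊓ L ≤ wOf K := by
    rw [← p.rK_inf_residual hcH, ← p.v.pCoreOf_maximal p.hk p.hC p.v' p.hk' p.hne p.hcard]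
    refine le_inf (le_pCoreOf inf_le_right ?_ (hU2.to_inf_left)) (inf_le_left.trans hUH)
    refine p.L_le.trans (sup_le ?_ fun y hy => ?_)
    · refine Coprime.le_normalizer_of_conj_mem fun a ha x hx => ?_
      have haL : a ∈ L ⊓ 𝐇 := (sup_le (le_inf p.v.le p.K_le)
        (le_inf (p.D_le.trans p.v.sylow.1) p.D_le_residual)) ha
      exact ⟨(mem_normalizer_iff.mp (hLH haL) x).mp hx.1,
        L.mul_mem (L.mul_mem haL.1 hx.2) (L.inv_mem haL.1)⟩
    · exact centralizer_le_normalizer _ (mem_centralizer_iff.mpr fun x hx =>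
        (mem_centralizer_iff.mp (p.L_le_centralizer_cK hx.2) y hy).symm)
  have hWU : wOf K ≤ normalizer (U : Set G) :=
    (le_inf (p.v.wOf_le_rK.trans (p.rK_le.trans p.v.sylow.1)) hWH).trans hLH
  have hUW : U ≤ wOf K := by
    by_contra hcon
    haveI : Fact (Nat.Prime 2) := ⟨Nat.prime_two⟩
    have hP : IsPGroup 2 (U ⊔ wOf K : Subgroup G) :=
      IsPGroup.to_sup_of_normal_left' hU2 (isPGroup_wOf p.v.comp) hWU
    obtain ⟨y, hyP, hyN, hyW⟩ := exists_normalizing_not_mem hP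
      (lt_of_le_of_ne (le_sup_right : wOf K ≤ U ⊔ wOf K) fun h => hcon (h ▸ le_sup_left))
    have hmem : y ∈ (U : Set G) * (wOf K : Set G) := by
      rw [← Subgroup.coe_mul_of_right_le_normalizer_left U (wOf K) hWU]
      exact hyP
    obtain ⟨u, hu, b, hb, rfl⟩ := hmem
    have hbL : b ∈ L := (p.v.wOf_le_rK.trans (p.rK_le.trans p.v.sylow.1)) hb
    rw [p.normalizer_wOf] at hyN
    exact hyW (mul_mem (hUL ⟨hu, (L.mul_mem_cancel_right hbL).mp hyN⟩) hb)
  have hUne : U ≠ ⊥ := fun h =>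
    hU₁ ((Subgroup.map_eq_bot_iff_of_injective _ (subtype_injective _)).mp h)
  obtain ⟨u, hu, hu1⟩ := (Subgroup.bot_or_exists_ne_one U).resolve_left hUne
  have hku : cj k u ∈ U :=
    cj_mem_of_le_normalizer (hLH ⟨p.v.le p.hk.mem, p.K_le p.hk.mem⟩) hu
  have hWleU : wOf K ≤ U := fun z hz => by
    rcases p.hk.w_cases p.v.comp (hUW hu) hu1 hz with rfl | rfl | rfl | rfl
    exacts [one_mem _, hu, hku, mul_mem hu hku]
  rw [← hU0, le_antisymm hUW hWleU, hN]

theorem Pair.dihedral (hcH' : cK T K' ⊓ 𝐇 = ⊥) (S : Sylow 2 G) (hTS : T ≤ (S : Subgroup G)) :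
    (∃ n : ℕ, 2 ≤ n ∧ Nonempty (↥((S : Subgroup G) ⊓ 𝐇) ≃* DihedralGroup n)) ∨
      IsQuasiDihedral ↥((S : Subgroup G) ⊓ 𝐇) := by
  haveI : Fact (Nat.Prime 2) := ⟨Nat.prime_two⟩
  set R : Subgroup G := (S : Subgroup G) ⊓ 𝐇 with hR
  have hR2 : IsPGroup 2 R := S.isPGroup'.to_inf_left
  obtain ⟨hD8, hTD⟩ := p.card_D hcH
  have hDR : wOf K ⊔ wOf K' ≤ R := le_inf (p.D_le.trans hTS) p.D_le_residual
  obtain ⟨x, hx, hxR, hall⟩ := p.exists_not_mem
  have hxR' : x ∈ R := hDR (mem_sup_right hx)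
  have hx2 : x * x = 1 := p.v'.wOf_mul_self hx
  have hx1 : x ≠ 1 := fun h => hxR (h ▸ one_mem _)
  have heq : R ⊓ centralizer ({x} : Set G) = wOf K' := by
    refine le_antisymm ?_ (le_inf (le_sup_right.trans hDR) fun z hz =>
      mem_centralizer_singleton_iff.mpr (four_comm p.v'.comp.2.2.2.2.2 hz hx))
    by_contra hcon
    have hle : wOf K' ≤ R ⊓ centralizer ({x} : Set G) :=
      le_inf (le_sup_right.trans hDR) fun z hz =>
        mem_centralizer_singleton_iff.mpr (four_comm p.v'.comp.2.2.2.2.2 hz hx)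
    obtain ⟨y, hy, hyN, hyW⟩ := exists_normalizing_not_mem (hR2.to_inf_left)
      (lt_of_le_of_ne hle fun h => hcon h.ge)
    rw [p.symm.normalizer_wOf] at hyN
    have hyT : y ∈ T := (p.symm.eq_of_two (S.isPGroup'.to_le inf_le_left)
      (le_inf hTS p.v'.sylow.1) (inf_le_right : (S : Subgroup G) ⊓ L' ≤ L')).le ⟨hy.1.1, hyN⟩
    refine hyW ((p.symm.rK_inf_residual hcH').le ⟨⟨hyT, mem_centralizer_iff.mpr fun z hz => ?_⟩, hy.1.2⟩)
    have hxy : x * y = y * x := (mem_centralizer_singleton_iff.mp hy.2).symm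
    rcases hall z hz with hzj | hzj
    · exact mem_centralizer_iff.mp (p.hC.fix hyT) z hzj
    · have h1 : x * z * y = y * (x * z) := mem_centralizer_iff.mp (p.hC.fix hyT) _ hzj
      rw [← mul_assoc, ← hxy, mul_assoc, mul_assoc, mul_right_inj] at h1
      exact h1
  have hcard : Nat.card (centralizer ({(⟨x, hxR'⟩ : R)} : Set R)) = 4 := by
    rw [← p.v'.wOf_card, ← heq, ← Subgroup.card_map_of_injective R.subtype_injective
      (K := centralizer ({(⟨x, hxR'⟩ : R)} : Set R))]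
    congr 2
    ext z
    constructor
    · rintro ⟨a, ha, rfl⟩
      exact ⟨a.2, mem_centralizer_singleton_iff.mpr
        (congrArg Subtype.val (mem_centralizer_singleton_iff.mp ha))⟩
    · rintro ⟨hz, hz'⟩
      exact ⟨⟨z, hz⟩, mem_centralizer_singleton_iff.mpr
        (Subtype.ext (mem_centralizer_singleton_iff.mp hz')), rfl⟩
  have h8 : 8 ≤ Nat.card R := hD8 ▸ card_le_of_le hDR
  rcases InvChar68.classification_centralizer_four hR2 ⟨x, hxR'⟩
    (by rw [← Subgroup.orderOf_coe]; exact orderOf_eq_prime (by rw [sq, hx2]) hx1) hcard with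
    ⟨n, ⟨e⟩⟩ | h | h
  · refine Or.inl ⟨n, ?_, ⟨e⟩⟩
    have h := Nat.card_congr e.toEquiv
    rw [DihedralGroup.nat_card] at h
    omega
  · exact Or.inr h
  · omega

end Cfsg.Agent.FGAmalgam30
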