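import Mathlib
import Cfsg.Agent.FGAmalgam30.Core
import Cfsg.Agent.InvChar68.ZC.Main

/-!
Groups of characteristic 2 type with solvable 2-locals and `C(Ω₁Z(S)) ≤ N(S)`: a strongly embedded
subgroup, or two `S₄` over a dihedral group of order 8 in `O²(G)`; and the reduction of the general
case to this one (helper30).
-/

set_option autoImplicit false
set_option linter.unusedSectionVars false
set_option linter.style.haveILetI false

namespace Cfsg.Agent.FGAmalgam30

open Subgroup Cfsg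
open Cfsg.Agent.LocalEven64
open scoped commutatorElement Pointwise

variable {G : Type*} [Group G] [Finite G]

theorem stronglyEmbedded_or_pair (hL : IsCharacteristicTwoType G) (hN : NHyp G) (hZ : ZHyp G)
    (hO : pCore 2 G = ⊥) :
    (∃ M : Subgroup G, IsStronglyEmbedded M) ∨
      ∃ (S : Sylow 2 G) (T K L K' L' : Subgroup G) (k k' : G),
        T ≤ (S : Subgroup G) ∧ Pair T K L K' L' k k' := by
  haveI : Fact (Nat.Prime 2) := ⟨Nat.prime_two⟩
  obtain ⟨S₀⟩ := (inferInstance : Nonempty (Sylow 2 G))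
  have hS₀ : (S₀ : Subgroup G) ≠ ⊥ := fun h => by
    have h1 := S₀.not_dvd_index
    rw [h, Subgroup.index_bot] at h1
    exact h1 (even_iff_two_dvd.mp hL.1)
  have hM2 : IsTwoLocal (normalizer (thompsonSubgroupOf 2 (S₀ : Subgroup G) : Set G)) :=
    ⟨_, isPGroup_thompsonSubgroupOf S₀.isPGroup', thompson_ne_bot S₀.isPGroup' hS₀, rfl⟩
  by_cases he : straddlingTwoSubgroups (normalizer (thompsonSubgroupOf 2 (S₀ : Subgroup G) : Set G)) = ∅
  · exact Or.inl ⟨_, (stronglyEmbedded_iff hL hO S₀ hM2 le_rfl).mpr he⟩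
  obtain ⟨T, hT⟩ := maxStraddling_nonempty (Set.nonempty_iff_ne_empty.mpr he)
  obtain ⟨S, hTS, hMJ⟩ := exists_sylow_above S₀ le_rfl hT.1.1 hT.1.2.2.1
  obtain ⟨K, hK⟩ := outside_nonempty S hMJ hL hN hZ hT
  obtain ⟨L, K', L', v, -, v', hne, hC, hcard⟩ := straddle_setup hL hN hZ hO S hMJ hT hTS hK
  obtain ⟨k, hk⟩ := exists_compData v.comp
  obtain ⟨k', hk'⟩ := exists_compData v'.comp
  exact Or.inr ⟨S, T, K, L, K', L', k, k', hTS, ⟨v, hk, hC, v', hk', hne, hcard⟩⟩

/-- The conclusion of S0518 from a pair. -/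
theorem s4_pair {S : Sylow 2 G} {T K L K' L' : Subgroup G} {k k' : G}
    (hTS : T ≤ (S : Subgroup G)) (p : Pair T K L K' L' k k') :
    ∃ M₁ M₂ : Subgroup ↥(pResidual 2 G), M₁ ≠ M₂ ∧ IsMaximalTwoLocal M₁ ∧ IsMaximalTwoLocal M₂ ∧
      Nonempty (↥M₁ ≃* Equiv.Perm (Fin 4)) ∧ Nonempty (↥M₂ ≃* Equiv.Perm (Fin 4)) ∧
      Nat.card ↥(M₁ ⊓ M₂) = 8 := by
  have hc := p.cK_inf_residual S hTS
  have hc' := p.symm.cK_inf_residual S hTS
  have e : ∀ X : Subgroup G, Nonempty (↥(X.subgroupOf (pResidual 2 G)) ≃*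
      ↥(X ⊓ pResidual 2 G : Subgroup G)) := fun X =>
    ⟨(MulEquiv.subgroupCongr (inf_subgroupOf_right X (pResidual 2 G)).symm).trans
      (Subgroup.subgroupOfEquivOfLe inf_le_right)⟩
  obtain ⟨e1⟩ := e L
  obtain ⟨e2⟩ := e L'
  obtain ⟨f1⟩ := p.iso_S4 hc
  obtain ⟨f2⟩ := p.symm.iso_S4 hc'
  have h8 : Nat.card ↥(L.subgroupOf (pResidual 2 G) ⊓ L'.subgroupOf (pResidual 2 G)) = 8 := by
    show Nat.card ↥((L ⊓ L').subgroupOf (pResidual 2 G)) = 8
    obtain ⟨e3⟩ := e (L ⊓ L')
    rw [Nat.card_congr e3.toEquiv, p.inf_eq, (p.card_D hc).2, (p.card_D hc).1]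
  refine ⟨_, _, fun h => ?_, p.isMaximalTwoLocal hc, p.symm.isMaximalTwoLocal hc', ⟨e1.trans f1⟩,
    ⟨e2.trans f2⟩, h8⟩
  rw [← h, inf_idem, Nat.card_congr e1.toEquiv] at h8
  have h24 := (p.card_L_inf hc).2
  omega

theorem pResidual_eq_closure : pResidual 2 G = Subgroup.closure {g : G | Odd (orderOf g)} := by
  show Subgroup.closure _ = _
  congr 1
  ext g
  exact Nat.coprime_two_right

theorem se_inf {X H : Subgroup G} {M : Subgroup ↥X} (hHX : H ≤ X) [H.Normal]
    (hH2 : Even (Nat.card H)) (hne : ¬ H.subgroupOf X ≤ M) (hM : IsStronglyEmbedded M) :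
    ∃ M' : Subgroup ↥H, IsStronglyEmbedded M' := by
  haveI : Fact (Nat.Prime 2) := ⟨Nat.prime_two⟩
  let f : ↥H →* ↥X := Subgroup.inclusion hHX
  have hf : Function.Injective f := Subgroup.inclusion_injective hHX
  refine ⟨M.comap f, fun h => hne fun x hx => ?_, ?_, fun g hg => ?_⟩
  · have : (⟨x, hx⟩ : ↥H) ∈ M.comap f := h ▸ mem_top _
    exact this
  · -- a nontrivial 2-element of `H` in `M`
    obtain ⟨P⟩ := (inferInstance : Nonempty (Sylow 2 ↥M))
    set P' : Subgroup ↥X := (P : Subgroup ↥M).map M.subtype with hP'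
    have hP2 : IsPGroup 2 P' := P.isPGroup'.map _
    have hP1 : P' ≠ ⊥ := fun h => by
      have h1 := P.not_dvd_index
      rw [(Subgroup.map_eq_bot_iff_of_injective _ M.subtype_injective).mp h,
        Subgroup.index_bot] at h1
      exact h1 (even_iff_two_dvd.mp hM.2.1)
    obtain ⟨Q, hQ⟩ := hP2.exists_le_sylow
    have hQM : (Q : Subgroup ↥X) ≤ M := by
      intro q hq
      by_contra hqM
      haveI := Q.isPGroup'.isNilpotent
      obtain ⟨y, hyQ, hyN, hy⟩ := exists_normalizing_not_mem Q.isPGroup'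
        (lt_of_le_of_ne (inf_le_left : (Q : Subgroup ↥X) ⊓ M ≤ Q) fun h =>
          hqM (h.ge hq).2)
      have hpm : (Q : Subgroup ↥X) ⊓ M ≠ ⊥ := fun h =>
        hP1 (le_bot_iff.mp (h ▸ le_inf hQ (map_subtype_le _)))
      exact hy ⟨hyQ, normalizer_le_of_stronglyEmbedded hM (Q.isPGroup'.to_inf_left) hpm
        inf_le_right hyN⟩
    obtain ⟨P₀, hP₀⟩ := exists_sylow_inf Q (H.subgroupOf X)
    have hcH : Nat.card (H.subgroupOf X) = Nat.card H :=
      Nat.card_congr (Subgroup.subgroupOfEquivOfLe hHX).toEquiv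
    rw [even_iff_two_dvd] at hH2 ⊢
    have hne0 : (Q : Subgroup ↥X) ⊓ H.subgroupOf X ≠ ⊥ := fun h => by
      have h1 := P₀.not_dvd_index
      rw [hP₀, h, Subgroup.bot_subgroupOf, Subgroup.index_bot, hcH] at h1
      exact h1 hH2
    obtain ⟨i, hi⟩ := IsPGroup.iff_card.mp
      (Q.isPGroup'.to_inf_left (K := H.subgroupOf X))
    have hi0 : i ≠ 0 := fun h0 => hne0 (Subgroup.card_eq_one.mp (by rw [hi, h0, pow_zero]))
    have hle : ((Q : Subgroup ↥X) ⊓ H.subgroupOf X) ≤ M ⊓ f.range := by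
      rintro x ⟨h1, h2⟩
      exact ⟨hQM h1, ⟨⟨x, mem_subgroupOf.mp h2⟩, Subtype.ext rfl⟩⟩
    have h := Subgroup.card_dvd_of_le hle
    rw [hi] at h
    rw [← Subgroup.card_map_of_injective hf, Subgroup.map_comap_eq, inf_comm]
    exact (dvd_pow_self 2 hi0).trans h
  · have hle : (M.comap f ⊓ (M.comap f).map (MulAut.conj g).toMonoidHom).map f ≤
        M ⊓ M.map (MulAut.conj (f g)).toMonoidHom := by
      rintro _ ⟨x, ⟨hx, ⟨y, hy, rfl⟩⟩, rfl⟩
      refine ⟨hx, f y, hy, ?_⟩
      simp [MulAut.conj_apply]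
    have h := Subgroup.card_dvd_of_le hle
    rw [Subgroup.card_map_of_injective hf] at h
    exact Odd.of_dvd_nat (hM.2.2 (f g) hg) h

theorem main (hN : ∀ L : Subgroup G, IsTwoLocal L → Group.IsSolvable L)
    (hZ : ∀ S : Sylow 2 G, centralizer (omegaCenterOf (S : Subgroup G) : Set G) ≤
      normalizer ((S : Subgroup G) : Set G))
    (heven : Even (Nat.card G)) (hO' : pPrimeCore 2 G = ⊥) (hO : pCore 2 G = ⊥) (S : Sylow 2 G)
    (hX : IsCharacteristicTwoType ↥(pResidual 2 G ⊔ omegaCenterOf (S : Subgroup G))) :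
    (∃ M : Subgroup ↥(pResidual 2 G), IsStronglyEmbedded M) ∨
      ((∃ n : ℕ, 2 ≤ n ∧ Nonempty (↥((S : Subgroup G) ⊓ pResidual 2 G) ≃* DihedralGroup n)) ∨
        IsQuasiDihedral ↥((S : Subgroup G) ⊓ pResidual 2 G)) := by
  haveI : Fact (Nat.Prime 2) := ⟨Nat.prime_two⟩
  set H : Subgroup G := pResidual 2 G with hH
  set Z : Subgroup G := omegaCenterOf (S : Subgroup G) with hZdef
  set X : Subgroup G := H ⊔ Z with hXdef
  have hHX : H ≤ X := le_sup_left
  have hSH : (S : Subgroup G) ⊔ H = ⊤ := Transfer.sylow_sup_pResidual_eq_top S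
  have hHtop : normalizer (H : Set G) = ⊤ := normalizer_eq_top H
  haveI hXn : X.Normal := by
    refine normalizer_eq_top_iff.mp (top_le_iff.mp ?_)
    rw [← hSH]
    refine sup_le ?_ (le_sup_left.trans le_normalizer)
    intro s hs
    rw [← map_cj_eq_self_iff, Subgroup.map_sup,
      map_cj_eq_self_iff.mpr (hHtop ▸ mem_top s : s ∈ normalizer (H : Set G)),
      map_cj_eq_self_iff.mpr (centralizer_le_normalizer _
        (mem_centralizer_iff.mpr fun z hz =>
          (mem_centralizer_iff.mp (omegaCenterOf_le_centralizer _ hz) s hs).symm))]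
  -- `O₂(X) = 1`
  have hOX : pCore 2 ↥X = ⊥ := by
    have h1 : (pCore 2 ↥X).map X.subtype ≤ pCore 2 G :=
      Thompson.le_pCore inferInstance ((Thompson.isPGroup_pCore (p := 2) (G := ↥X)).map _)
    rw [hO, le_bot_iff] at h1
    exact (Subgroup.map_eq_bot_iff_of_injective _ X.subtype_injective).mp h1
  have hNX : NHyp ↥X := by
    rintro N ⟨U, hU, hU1, rfl⟩
    have hUm : U.map X.subtype ≠ ⊥ := fun h =>
      hU1 ((Subgroup.map_eq_bot_iff_of_injective _ X.subtype_injective).mp h)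
    haveI := hN _ ⟨_, hU.map X.subtype, hUm, rfl⟩
    have hle : ∀ x : ↥(normalizer (U : Set ↥X)), ((x : ↥X) : G) ∈
        normalizer ((U.map X.subtype : Subgroup G) : Set G) := fun x => by
      rw [← map_cj_eq_self_iff]
      conv_rhs => rw [← map_cj_eq_self_iff.mpr x.2]
      rw [Subgroup.map_map, Subgroup.map_map]
      congr 1
    exact Group.isSolvable_of_isSolvable_injective (f := ((X.subtype.comp (normalizer (U : Set ↥X)).subtype).codRestrict
      (normalizer ((U.map X.subtype : Subgroup G) : Set G)) hle))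
      fun a b hab => Subtype.ext (Subtype.ext (show ((a : ↥X) : G) = ((b : ↥X) : G) from
        congrArg (fun c : ↥(normalizer ((U.map X.subtype : Subgroup G) : Set G)) => (c : G)) hab))
  have hZX : ZHyp ↥X := by
    intro P
    obtain ⟨S₁, hS₁⟩ := (P.isPGroup'.map X.subtype).exists_le_sylow
    have h1 := Thompson.Alperin.sylow_inf_eq X P S₁ hS₁
    obtain ⟨g, hg⟩ := MulAction.exists_smul_eq G S S₁
    have hZ1 : omegaCenterOf (S₁ : Subgroup G) ≤ X := by
      have h2 : (S₁ : Subgroup G) = (S : Subgroup G).map (cj g) := by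
        rw [← hg, Sylow.coe_subgroup_smul]; rfl
      rw [h2, ← omegaCenterOf_map (cj_injective g)]
      exact (Subgroup.map_mono le_sup_right).trans
        (map_cj_eq_self_iff.mpr ((normalizer_eq_top X).ge (mem_top g))).le
    intro x hx
    have hxS : (x : G) ∈ normalizer ((S₁ : Subgroup G) : Set G) := by
      refine hZ S₁ (mem_centralizer_iff.mpr fun z hz => ?_)
      have hzX : z ∈ X := hZ1 hz
      have hzS : z ∈ (S₁ : Subgroup G) := omegaCenterOf_le _ hz
      have hzP : (⟨z, hzX⟩ : ↥X) ∈ omegaCenterOf (P : Subgroup ↥X) := by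
        refine mem_omegaCenterOf ?_ (mem_centralizer_iff.mpr fun q hq => Subtype.ext ?_)
          (Subtype.ext (mul_self_of_mem_omegaCenterOf hz))
        · have : z ∈ (P : Subgroup ↥X).map X.subtype := h1 ▸ ⟨hzS, hzX⟩
          obtain ⟨a, ha, haz⟩ := this
          rwa [show (⟨z, hzX⟩ : ↥X) = a from Subtype.ext haz.symm]
        · exact mem_centralizer_iff.mp (omegaCenterOf_le_centralizer _ hz) (q : G)
            (hS₁ (mem_map_of_mem _ hq))
      exact congrArg Subtype.val (mem_centralizer_iff.mp hx _ hzP)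
    rw [← map_cj_eq_self_iff]
    refine Subgroup.map_injective X.subtype_injective ?_
    rw [Subgroup.map_map, show X.subtype.comp (cj x) = (cj (x : G)).comp X.subtype from rfl,
      ← Subgroup.map_map, ← h1, Subgroup.map_inf _ _ _ (cj_injective _),
      map_cj_eq_self_iff.mpr hxS,
      map_cj_eq_self_iff.mpr ((normalizer_eq_top X).ge (mem_top (x : G)))]
  -- `O²(X) = H`
  have hres : (pResidual 2 ↥X).map X.subtype = H := by
    refine le_antisymm (Transfer.map_pResidual_le _) ?_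
    rw [hH, Transfer.pResidual_le_iff]
    intro g hg
    have hgH : g ∈ H := Transfer.mem_pResidual_of_coprime hg
    exact ⟨⟨g, hHX hgH⟩, Transfer.mem_pResidual_of_coprime
      (by rwa [← Subgroup.orderOf_coe]), rfl⟩
  rcases stronglyEmbedded_or_pair hX hNX hZX hOX with ⟨M, hM⟩ | ⟨SX, T, K, L, K', L', k, k', hTS, p⟩
  · refine Or.inl (se_inf hHX ?_ ?_ hM)
    · by_contra hodd
      refine InvChar68.ZC.sylow_inf_residual_ne_bot heven hO' hO S ?_
      rw [← Subgroup.card_eq_one]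
      obtain ⟨i, hi⟩ := IsPGroup.iff_card.mp (S.isPGroup'.to_inf_left (K := H))
      have hd := Subgroup.card_dvd_of_le (inf_le_right : (S : Subgroup G) ⊓ H ≤ H)
      rw [hi] at hd ⊢
      rcases Nat.eq_zero_or_pos i with rfl | h
      · rfl
      · exact absurd (even_iff_two_dvd.mpr ((dvd_pow_self 2 h.ne').trans hd)) hodd
    · intro hle
      -- a normal subgroup inside a strongly embedded subgroup has odd order
      have hodd : Odd (Nat.card (H.subgroupOf X)) := by
        obtain ⟨g, hg⟩ : ∃ g : ↥X, g ∉ M := by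
          by_contra h
          push Not at h
          exact hM.1 (eq_top_iff.mpr fun x _ => h x)
        refine Odd.of_dvd_nat (hM.2.2 g hg) (Subgroup.card_dvd_of_le (le_inf hle ?_))
        exact (map_cj_eq_self_iff.mpr ((normalizer_eq_top (H.subgroupOf X)).ge (mem_top g))).ge.trans
          (Subgroup.map_mono hle)
      rw [Nat.card_congr (Subgroup.subgroupOfEquivOfLe hHX).toEquiv] at hodd
      have hH1 : H = ⊥ := le_bot_iff.mp (hO' ▸ Thompson.le_pPrimeCore inferInstance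
        (Nat.coprime_two_right.mpr hodd))
      exact InvChar68.ZC.sylow_inf_residual_ne_bot heven hO' hO S
        (le_bot_iff.mp (inf_le_right.trans hH1.le))
  refine Or.inr ?_
  obtain ⟨S₁, hS₁⟩ := (SX.isPGroup'.map X.subtype).exists_le_sylow
  have h1 := Thompson.Alperin.sylow_inf_eq X SX S₁ hS₁
  obtain ⟨g, hg⟩ := MulAction.exists_smul_eq G S₁ S
  have hmap : ((SX : Subgroup ↥X) ⊓ pResidual 2 ↥X).map
      ((cj g).comp X.subtype) = (S : Subgroup G) ⊓ H := by
    rw [← Subgroup.map_map, Subgroup.map_inf _ _ _ X.subtype_injective, hres, ← h1, inf_assoc,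
      inf_eq_right.mpr hHX, Subgroup.map_inf _ _ _ (cj_injective g), ← hg,
      Sylow.coe_subgroup_smul, map_cj_eq_self_iff.mpr (hHtop ▸ mem_top g : g ∈ normalizer (H : Set G))]
    rfl
  have e : ↥((S : Subgroup G) ⊓ H) ≃* ↥((SX : Subgroup ↥X) ⊓ pResidual 2 ↥X) :=
    (MulEquiv.subgroupCongr hmap.symm).trans (Subgroup.equivMapOfInjective _ _
      (show Function.Injective ((cj g).comp X.subtype) from (cj_injective g).comp X.subtype_injective)).symm
  rcases p.dihedral (p.cK_inf_residual SX hTS) (p.symm.cK_inf_residual SX hTS) SX hTS with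
    ⟨n, hn, ⟨d⟩⟩ | ⟨n, hn, hcard, x, y, hx, hy, hxy⟩
  · exact Or.inl ⟨n, hn, ⟨e.trans d⟩⟩
  · refine Or.inr ⟨n, hn, by rw [← hcard]; exact Nat.card_congr e.toEquiv, e.symm x, e.symm y, ?_⟩
    refine ⟨by rw [MulEquiv.orderOf_eq]; exact hx, by rw [MulEquiv.orderOf_eq]; exact hy, ?_⟩
    rw [← map_inv, ← map_mul, ← map_mul, hxy, map_pow]

end Cfsg.Agent.FGAmalgam30
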